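import Cfsg.Agent.SporadicB.J1.Main

/-!
# `J1` is generated by an involution and an element (helper569, for S4180)

`J1 = ⟨(X Y)⁵, X⟩`.
-/

set_option autoImplicit false

namespace Cfsg.Agent.H569.DG

open Cfsg.Agent.SporadicB.J1.Mat Cfsg.Agent.SporadicB.J1.Data Cfsg.Agent.SporadicB.J1.Main
open Cfsg.Spor (J1 jankoX jankoY)

/-- a group generated by an involution and another element -/
def InvGen (T : Type*) [Group T] : Prop :=
  ∃ c b : T, c ^ 2 = 1 ∧ c ≠ 1 ∧ Subgroup.closure ({c, b} : Set T) = ⊤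

theorem InvGen.of_surj {G H : Type*} [Group G] [Group H] (f : H →* G) (hf : Function.Surjective f) {c b : H}
    (hc : c ^ 2 = 1) (hc1 : f c ≠ 1) (h : Subgroup.closure ({c, b} : Set H) = ⊤) : InvGen G := by
  refine ⟨f c, f b, by rw [← map_pow, hc, map_one], hc1, ?_⟩
  have h1 := MonoidHom.map_closure f ({c, b} : Set H)
  rw [h, Set.image_pair, ← MonoidHom.range_eq_map, MonoidHom.range_eq_top.mpr hf] at h1
  exact h1.symm

theorem InvGen.congr {G H : Type*} [Group G] [Group H] (e : G ≃* H) (h : InvGen H) : InvGen G := by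
  obtain ⟨c, b, hc, hc1, h⟩ := h
  refine InvGen.of_surj (e.symm : H →* G) e.symm.surjective hc ?_ h
  intro h1
  exact hc1 (e.symm.map_eq_one_iff.mp h1)

theorem InvGen.of_closure {H : Type*} [Group H] {K : Subgroup H} {c b : H}
    (hc : c ^ 2 = 1) (hc1 : c ≠ 1) (h : Subgroup.closure ({c, b} : Set H) = K) : InvGen K := by
  have ha : c ∈ K := h ▸ Subgroup.subset_closure (Set.mem_insert _ _)
  have hb : b ∈ K := h ▸ Subgroup.subset_closure (Set.mem_insert_of_mem _ rfl)
  refine ⟨⟨c, ha⟩, ⟨b, hb⟩, Subtype.ext hc, fun h1 => hc1 (congrArg Subtype.val h1), ?_⟩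
  apply Subgroup.map_injective K.subtype_injective
  rw [MonoidHom.map_closure, Set.image_pair]
  simp only [Subgroup.coe_subtype]
  rw [h, ← MonoidHom.range_eq_map, Subgroup.range_subtype]

/-- A simple group whose order is not a prime is not commutative. -/
theorem not_comm_of_card {T : Type*} [Group T] [Finite T] [IsSimpleGroup T] {n : ℕ} (hn : Nat.card T = n)
    (hp : ¬ n.Prime) : ¬ IsMulCommutative T := by
  intro h
  let _ : CommGroup T := { (inferInstance : Group T) with mul_comm := fun a b => h.is_comm.comm a b }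
  exact hp (hn ▸ IsSimpleGroup.prime_card (α := T))

namespace JOne

/-- words in `u0`, `X`, `X⁻¹` -/
def wv : List ℕ → J1
  | [] => 1
  | 0 :: w => u0 * wv w
  | 1 :: w => X * wv w
  | _ :: w => X⁻¹ * wv w

/-- their codes -/
def wc : List ℕ → Nat
  | [] => cI
  | 0 :: w => mulC cu0 (wc w)
  | 1 :: w => mulC cX (wc w)
  | _ :: w => mulC cXi (wc w)

theorem rep_wv : ∀ w : List ℕ, Rep (wv w) (wc w)
  | [] => Rep.one
  | 0 :: w => rep_u0.mul (rep_wv w)
  | 1 :: w => repX.mul (rep_wv w)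
  | (_ + 2) :: w => repXi.mul (rep_wv w)

theorem wv_mem : ∀ w : List ℕ, wv w ∈ Subgroup.closure ({u0, X} : Set J1)
  | [] => Subgroup.one_mem _
  | 0 :: w => Subgroup.mul_mem _ (Subgroup.subset_closure (by simp)) (wv_mem w)
  | 1 :: w => Subgroup.mul_mem _ (Subgroup.subset_closure (by simp)) (wv_mem w)
  | (_ + 2) :: w => Subgroup.mul_mem _ (Subgroup.inv_mem _ (Subgroup.subset_closure (by simp))) (wv_mem w)

/-- the word of `Y` -/
def wY : List ℕ := [2, 2, 0, 2, 2, 2, 0, 2, 2, 2, 0, 2, 2, 0, 2, 2, 0, 2, 0, 2, 2, 0, 2]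

theorem wc_Y : wc wY = cY := by decide +kernel

theorem Y_eq : wv wY = Y := (rep_wv wY).eq repY wc_Y

theorem closure_XY : Subgroup.closure ({X, Y} : Set J1) = ⊤ := by
  apply Subgroup.map_injective J1.subtype_injective
  rw [MonoidHom.map_closure, Set.image_pair, ← MonoidHom.range_eq_map, Subgroup.range_subtype]
  rfl

theorem closure_uX : Subgroup.closure ({u0, X} : Set J1) = ⊤ := by
  rw [eq_top_iff, ← closure_XY, Subgroup.closure_le]
  rintro _ (rfl | rfl)
  · exact Subgroup.subset_closure (by simp)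
  · exact Y_eq ▸ wv_mem wY

theorem u0_sq : u0 ^ 2 = 1 := by
  rw [pow_two]
  exact (rep_u0.mul rep_u0).eq Rep.one (ce_sq 1)

theorem u0_ne : u0 ≠ 1 := rep_u0.ne Rep.one (by decide +kernel)

theorem invGen : InvGen J1 := ⟨u0, X, u0_sq, u0_ne, closure_uX⟩

end JOne

/-- **`J1` is generated by an involution and another element.** -/
theorem invGen_j1 {T : Type*} [Group T] (h : Cfsg.Spor.IsoJ1 T) : InvGen T := by
  obtain ⟨e⟩ := h
  exact JOne.invGen.congr e

theorem notComm_j1 {T : Type*} [Group T] [Finite T] [IsSimpleGroup T] (h : Cfsg.Spor.IsoJ1 T) :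
    ¬ IsMulCommutative T := by
  obtain ⟨e⟩ := h
  exact not_comm_of_card (n := 175560) ((Nat.card_congr e.toEquiv).trans isJ1.2) (by norm_num)

end Cfsg.Agent.H569.DG
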